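import Cfsg.Agent.Lib.DC.HN.Defs

set_option autoImplicit false
set_option maxRecDepth 100000
set_option Elab.async false
set_option linter.unusedSectionVars false

namespace Cfsg.Agent.DC.HN
open Cfsg.Agent.CG

theorem c0 : allLt (fun a => Nat.beq (iv a) (nth CG.HSx.invL 24 a)) 256 = true := by decide +kernel
theorem c1 : band (blt ivT (Nat.pow 2 2048)) (blt CG.HSx.invL.length 256) = true := by decide +kernel
theorem c2 : allLt (fun a => blt (iv a) 256) 256 = true := by decide +kernel
theorem c3 : rules.all (ruleChk iv rels0 lrels idx) = true := by decide +kernel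
theorem c4 : allRange (chk CG.HSx.app iv CG.HSx.bs false facts nd rules) 0 259 = true := by decide +kernel
theorem c5 : chainIn (dl.map Prod.fst) CG.HSx.mc.tail = true := by decide +kernel
theorem c6 : allL (dlChk facts 259 1) dl = true := by decide +kernel
theorem c7 : allRange (forChk CG.HSx.app iv facts 259 0 1 0 16 fin fo0) 0 1408 = true := by decide +kernel
theorem c8 : allRange (forChk CG.HSx.app iv facts 259 1 1 0 16 fin fo1) 0 1408 = true := by decide +kernel
theorem c9 : allRange (forChk CG.HSx.app iv facts 259 2 1 0 16 fin fo2) 0 1408 = true := by decide +kernel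
theorem c10 : allRange (forChk CG.HSx.app iv facts 259 3 1 0 16 fin fo3) 0 1408 = true := by decide +kernel
theorem c11 : allRange (forChk CG.HSx.app iv facts 259 5 1 0 16 fin fo4) 0 1408 = true := by decide +kernel
theorem c12 : allRange (forChk CG.HSx.app iv facts 259 6 1 0 16 fin fo5) 0 1408 = true := by decide +kernel
theorem c13 : allRange (forChk CG.HSx.app iv facts 259 7 1 0 16 fin fo6) 0 1408 = true := by decide +kernel
theorem c14 : allRange (forChk CG.HSx.app iv facts 259 8 1 0 16 fin fo7) 0 1408 = true := by decide +kernel
theorem c15 : allRange (forChk CG.HSx.app iv facts 259 9 1 0 16 fin fo8) 0 1408 = true := by decide +kernel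

end Cfsg.Agent.DC.HN
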