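import Cfsg.Agent.Lib.DC.HN.D0
import Cfsg.Agent.Lib.Grp.HSx.Defs

set_option autoImplicit false
set_option maxRecDepth 100000
set_option Elab.async false
set_option linter.unusedSectionVars false

namespace Cfsg.Agent.DC.HN
open Cfsg.Agent.CG

noncomputable def facts : Tr Fact := (.node facts_0 facts_1)
noncomputable def nd : ℕ → ℕ := (fun i => look 0xffffff ndT (Nat.mul 24 i))
noncomputable def ivT : ℕ := nat_lit 0xf0d0e0b0c090a17081516131411121f101d1e1c1a1b1819
noncomputable abbrev iv : ℕ → ℕ := ivX ivT 24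
noncomputable def rels : List (List ℕ × List ℤ) := [([256,1,1,256,0,0], []),
  ([1,256,0,256,256], []),
  ([257,3,256,2], []),
  ([4,256,4,256,4,256], []),
  ([257,1,3,0,256,1,2,0], [])]
noncomputable def lrels : List (List ℕ) := []
noncomputable abbrev rels0 : List (List ℕ × List ℤ) := ([], []) :: ([256, 257], []) :: rels
noncomputable def idx : List (ℕ × ℕ) := [(257, 2)]
noncomputable def fin : List ℕ := [0,1,2,3,5,6,7,8,9]
noncomputable def dl : List (ℕ × ℕ) := [(2,244),(3,245),(11,246),(12,247),(13,248),(14,249),(15,250),(16,251),(17,252),(18,253),(19,254),(20,255),(21,256),(22,257),(23,258)]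
noncomputable def fo0 : ℕ → ℕ := (fun i => look 0xffffffff fo0T (Nat.mul 32 i))
noncomputable def fo1 : ℕ → ℕ := (fun i => look 0xffffffff fo1T (Nat.mul 32 i))
noncomputable def fo2 : ℕ → ℕ := (fun i => look 0xffffffff fo2T (Nat.mul 32 i))
noncomputable def fo3 : ℕ → ℕ := (fun i => look 0xffffffff fo3T (Nat.mul 32 i))
noncomputable def fo4 : ℕ → ℕ := (fun i => look 0xffffffff fo4T (Nat.mul 32 i))
noncomputable def fo5 : ℕ → ℕ := (fun i => look 0xffffffff fo5T (Nat.mul 32 i))
noncomputable def fo6 : ℕ → ℕ := (fun i => look 0xffffffff fo6T (Nat.mul 32 i))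
noncomputable def fo7 : ℕ → ℕ := (fun i => look 0xffffffff fo7T (Nat.mul 32 i))
noncomputable def fo8 : ℕ → ℕ := (fun i => look 0xffffffff fo8T (Nat.mul 32 i))

end Cfsg.Agent.DC.HN
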