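import Cfsg.Agent.Lib.Grp.HSx.Main
import Cfsg.Agent.Lib.DC.HN.C0

set_option autoImplicit false
set_option maxRecDepth 100000
set_option Elab.async false
set_option linter.unusedSectionVars false

namespace Cfsg.Agent.DC.HN
open Cfsg.Agent.CG

variable [_root_.Fact (Bounds CG.HSx.tcR CG.HSx.tcS 177408000)] {Γ : Type*} [Group Γ] {f : CG.HSx.PG →* Γ} {τ z : ℕ → Γ} {L : Subgroup Γ}

theorem hiv : ∀ a, CG.HSx.act.gen (iv a) = (CG.HSx.act.gen a)⁻¹ := fun a =>
  (congrArg CG.HSx.act.gen (ivX_eq c0 c1 a)).trans (CG.HSx.hinv a)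

theorem h256 : ∀ a, a < 256 → iv a < 256 := fun a ha => (blt_iff _ _).1 ((allLt_iff _ _).1 c2 a ha)

theorem all : allRange (chk CG.HSx.app iv CG.HSx.bs false facts nd rules) 0 259 = true :=
  c4

theorem sem (hz : ∀ i, z i ∈ Subgroup.center Γ) (hrel : ∀ r ∈ rels, ev (tokv CG.HSx.act.gen f τ) r.1 = zv z r.2)
    (hL : ∀ g, f g ∈ L) (hl : ∀ r ∈ lrels, ev (tokv CG.HSx.act.gen f τ) r ∈ L) :
    ∀ j, j < 259 → Sem CG.HSx.act false facts nd rules f τ z L (facts.get j) :=
  sound (env_of_chk (lrels := lrels) (idx := idx) CG.HSx.base hiv hz (rels01 hrel) (fun _ => hL) (fun _ => hl) c2 c3) all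

theorem for0 : allRange (forChk CG.HSx.app iv facts 259 0 1 0 16 fin fo0) 0 1408 = true :=
  c7

theorem for1 : allRange (forChk CG.HSx.app iv facts 259 1 1 0 16 fin fo1) 0 1408 = true :=
  c8

theorem for2 : allRange (forChk CG.HSx.app iv facts 259 2 1 0 16 fin fo2) 0 1408 = true :=
  c9

theorem for3 : allRange (forChk CG.HSx.app iv facts 259 3 1 0 16 fin fo3) 0 1408 = true :=
  c10

theorem for4 : allRange (forChk CG.HSx.app iv facts 259 5 1 0 16 fin fo4) 0 1408 = true :=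
  c11

theorem for5 : allRange (forChk CG.HSx.app iv facts 259 6 1 0 16 fin fo5) 0 1408 = true :=
  c12

theorem for6 : allRange (forChk CG.HSx.app iv facts 259 7 1 0 16 fin fo6) 0 1408 = true :=
  c13

theorem for7 : allRange (forChk CG.HSx.app iv facts 259 8 1 0 16 fin fo7) 0 1408 = true :=
  c14

theorem for8 : allRange (forChk CG.HSx.app iv facts 259 9 1 0 16 fin fo8) 0 1408 = true :=
  c15

theorem finite [Finite L] (hM : ∀ i, z i ∈ L) (hz : ∀ i, z i ∈ Subgroup.center Γ) (hrel : ∀ r ∈ rels, ev (tokv CG.HSx.act.gen f τ) r.1 = zv z r.2)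
    (hL : ∀ g, f g ∈ L) (hl : ∀ r ∈ lrels, ev (tokv CG.HSx.act.gen f τ) r ∈ L) :
    Finite (Subgroup.closure (Set.range f ∪ {τ 0})) := by
  have S := sem hz hrel hL hl
  have k := fun {e : ℕ} {tb : ℕ → ℕ} => forest_sound S hM_I hM hiv CG.HSx.tabOK.w_pos (fun _ => Iff.rfl) (act_surj CG.HSx.tabOK)
    (e := e) (eps := 1) (x0 := 0) ⟨0, by decide, rfl⟩
    (fun _ hg => stab_passes S hz hM CG.HSx.chain CG.HSx.card_le c5 c6 hg) (fin := fin) (tb := tb)
  exact finite_of_cover (t := tau τ 1) (M := L) (fin := fin) (by decide) (all_cons (k for0) (all_cons (k for1) (all_cons (k for2) (all_cons (k for3) (all_cons (k for4) (all_cons (k for5) (all_cons (k for6) (all_cons (k for7) (all_cons (k for8) all_nil)))))))))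


end Cfsg.Agent.DC.HN
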